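import Cfsg.Agent.H864.RC.DefG

/-!
# S3510, triality type iii, box G, (P4): the end, only planes (helper893)
-/

set_option autoImplicit false
open Cfsg

namespace Cfsg.Agent.H893.RC

open Module QuadraticMap
open Cfsg.Agent.LieClassical.OrthCore Cfsg.Agent.LieClassical.OrthTrans

section gen

variable {F V : Type*} [Field F] [AddCommGroup V] [Module F V] {Q : QuadraticForm F V}

theorem finrank_pair {e₁ e₂ f₁ f₂ : V} (h1 : Hyp Q e₁ f₁) (h2 : Hyp Q e₂ f₂) (_ee : polar Q e₁ e₂ = 0)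
    (ef : polar Q e₁ f₂ = 0) (fe : polar Q f₁ e₂ = 0) : finrank F (Submodule.span F {e₁, e₂}) = 2 := by
  have hli : LinearIndependent F ![e₁, e₂] := by
    rw [LinearIndependent.pair_iff]
    intro a b hab
    have k1 : polar Q f₁ (a • e₁ + b • e₂) = a := by
      rw [polar_add_right, polar_smul_right, polar_smul_right, h1.pair', fe, smul_zero, add_zero, smul_eq_mul, mul_one]
    have k2 : polar Q f₂ (a • e₁ + b • e₂) = b := by
      rw [polar_add_right, polar_smul_right, polar_smul_right, h2.pair', polar_comm Q f₂ e₁, ef, smul_zero, zero_add,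
        smul_eq_mul, mul_one]
    rw [hab, polar_zero_right] at k1 k2
    exact ⟨k1.symm, k2.symm⟩
  have h3 := finrank_span_eq_card hli
  rw [Matrix.range_cons, Matrix.range_cons, Matrix.range_empty, Set.union_empty, Fintype.card_fin] at h3
  exact h3

/-- a nondegenerate plane with a singular vector is hyperbolic -/
theorem hyp_plane {P : Submodule F V} (hP : finrank F P = 2)
    (hnd : ∀ v ∈ P, (∀ w ∈ P, polar Q v w = 0) → v = 0) {e : V} (he : e ∈ P) (he0 : e ≠ 0) (hes : Q e = 0) :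
    ∃ f ∈ P, Hyp Q e f ∧ ∀ x ∈ P, x = polar Q f x • e + polar Q e x • f := by
  obtain ⟨w, hw, hew⟩ : ∃ w ∈ P, polar Q e w ≠ 0 := by
    by_contra hcon
    push Not at hcon
    exact he0 (hnd e he hcon)
  obtain ⟨w', hw', hew'⟩ : ∃ w ∈ P, polar Q e w = 1 :=
    ⟨(polar Q e w)⁻¹ • w, P.smul_mem _ hw, by rw [polar_smul_right, smul_eq_mul, inv_mul_cancel₀ hew]⟩
  have hf : w' - Q w' • e ∈ P := P.sub_mem hw' (P.smul_mem _ he)
  have hH : Hyp Q e (w' - Q w' • e) := by
    refine ⟨hes, ?_, ?_⟩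
    · rw [sub_eq_add_neg, ← neg_smul, Q_add, QuadraticMap.map_smul, hes, smul_zero, add_zero, polar_smul_right,
        polar_comm Q w' e, hew', smul_eq_mul, mul_one, add_neg_cancel]
    · rw [polar_sub_right, polar_smul_right, polar_self_of_sing hes, smul_zero, sub_zero, hew']
  refine ⟨w' - Q w' • e, hf, hH, ?_⟩
  set f := w' - Q w' • e with hfdef
  have hspan : Submodule.span F {e, f} = P := by
    have : FiniteDimensional F P := FiniteDimensional.of_finrank_pos (by omega)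
    apply Submodule.eq_of_le_of_finrank_eq
    · rw [Submodule.span_le]
      rintro x hx
      rcases hx with rfl | rfl
      · exact he
      · exact hf
    · rw [hP]
      have hli : LinearIndependent F ![e, f] := by
        rw [LinearIndependent.pair_iff]
        intro a b hab
        have k1 : polar Q f (a • e + b • f) = a := by
          rw [polar_add_right, polar_smul_right, polar_smul_right, hH.pair', hH.polar_right, smul_zero, add_zero,
            smul_eq_mul, mul_one]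
        have k2 : polar Q e (a • e + b • f) = b := by
          rw [polar_add_right, polar_smul_right, polar_smul_right, hH.pair, hH.polar_left, smul_zero, zero_add,
            smul_eq_mul, mul_one]
        rw [hab, polar_zero_right] at k1 k2
        exact ⟨k1.symm, k2.symm⟩
      have h3 := finrank_span_eq_card hli
      rw [Matrix.range_cons, Matrix.range_cons, Matrix.range_empty, Set.union_empty, Fintype.card_fin] at h3
      exact h3
  intro x hx
  rw [← hspan, Submodule.mem_span_pair] at hx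
  obtain ⟨a, b, rfl⟩ := hx
  have k1 : polar Q f (a • e + b • f) = a := by
    rw [polar_add_right, polar_smul_right, polar_smul_right, hH.pair', hH.polar_right, smul_zero, add_zero,
      smul_eq_mul, mul_one]
  have k2 : polar Q e (a • e + b • f) = b := by
    rw [polar_add_right, polar_smul_right, polar_smul_right, hH.pair, hH.polar_left, smul_zero, zero_add,
      smul_eq_mul, mul_one]
  rw [k1, k2]

/-- an isometry of odd order of a hyperbolic plane fixes the singular lines -/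
theorem fix_line {P : Submodule F V} {e f : V} (he : e ∈ P) (hf : f ∈ P) (hH : Hyp Q e f)
    (hx : ∀ x ∈ P, x = polar Q f x • e + polar Q e x • f) {c : V ≃ₗ[F] V} (hc : c ∈ O Q) (hcP : ∀ v ∈ P, c v ∈ P)
    {n : ℕ} (hn : Odd n) (hcn : c ^ n = 1) : ∃ a : F, c e = a • e := by
  have h1 : c e = polar Q f (c e) • e + polar Q e (c e) • f := hx _ (hcP e he)
  set a := polar Q f (c e) with ha
  set b := polar Q e (c e) with hb
  have hQe : a * b = 0 := by
    have h2 := hc e
    rw [hH.left, h1, Q_add, QuadraticMap.map_smul, QuadraticMap.map_smul, hH.left, hH.right, smul_zero, smul_zero,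
      zero_add, zero_add, polar_smul_left, polar_smul_right, hH.pair, smul_eq_mul, smul_eq_mul, mul_one] at h2
    exact h2
  rcases mul_eq_zero.1 hQe with h0 | h0
  swap
  · exact ⟨a, by rw [h1, h0, zero_smul, add_zero]⟩
  rw [h0, zero_smul, zero_add] at h1
  -- `c` interchanges the two lines
  have h2 : c f = polar Q f (c f) • e + polar Q e (c f) • f := hx _ (hcP f hf)
  set g := polar Q f (c f) with hg
  set d := polar Q e (c f) with hd
  have h3 : b * g = 1 := by
    have h4 := polar_map hc e f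
    rw [hH.pair, h1, h2, polar_smul_left, polar_add_right, polar_smul_right, polar_smul_right, hH.pair',
      hH.polar_right, smul_zero, add_zero, smul_eq_mul, smul_eq_mul, mul_one] at h4
    exact h4
  have hg0 : g ≠ 0 := right_ne_zero_of_mul_eq_one h3
  have hd0 : d = 0 := by
    have h4 := hc f
    rw [hH.right, h2, Q_add, QuadraticMap.map_smul, QuadraticMap.map_smul, hH.left, hH.right, smul_zero, smul_zero,
      zero_add, zero_add, polar_smul_left, polar_smul_right, hH.pair, smul_eq_mul, smul_eq_mul, mul_one] at h4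
    exact (mul_eq_zero.1 h4).resolve_left hg0
  rw [hd0, zero_smul, add_zero] at h2
  have h4 : (c ^ 2) e = e := by
    rw [pow_two]
    show c (c e) = e
    rw [h1, map_smul, h2, smul_smul, h3, one_smul]
  have h5 : ∀ k : ℕ, ((c ^ 2) ^ k) e = e := by
    intro k
    induction k with
    | zero => rfl
    | succ k ih =>
      rw [pow_succ]
      show ((c ^ 2) ^ k) ((c ^ 2) e) = e
      rw [h4, ih]
  obtain ⟨k, hk⟩ := hn
  have h6 : (c ^ n) e = c e := by
    rw [hk, pow_succ', pow_mul]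
    show c (((c ^ 2) ^ k) e) = c e
    rw [h5]
  rw [hcn] at h6
  exact ⟨1, by rw [one_smul]; exact h6.symm⟩

/-- two orthogonal hyperbolic planes -/
theorem two_planes {P P' : Submodule F V} (hP : finrank F P = 2) (hP' : finrank F P' = 2)
    (hperp : ∀ v ∈ P, ∀ w ∈ P', polar Q v w = 0) (hnd : ∀ v ∈ P, (∀ w ∈ P, polar Q v w = 0) → v = 0)
    (hnd' : ∀ v ∈ P', (∀ w ∈ P', polar Q v w = 0) → v = 0) {v w : V} (hv : v ∈ P) (hv0 : v ≠ 0) (hvs : Q v = 0)
    (hw : w ∈ P') (hw0 : w ≠ 0) (hws : Q w = 0) :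
    ∃ L L' : Submodule F V, finrank F L = 2 ∧ finrank F L' = 2 ∧ (∀ v ∈ L, Q v = 0) ∧ (∀ v ∈ L', Q v = 0) ∧
      (∀ v ∈ L, (∀ w ∈ L', polar Q v w = 0) → v = 0) ∧
      (∀ c ∈ O Q, (∀ v ∈ P, c v ∈ P) → (∀ v ∈ P', c v ∈ P') → (∃ n, Odd n ∧ c ^ n = 1) → ∀ v ∈ L, c v ∈ L) ∧
      (∀ c ∈ O Q, (∀ v ∈ P, c v ∈ P) → (∀ v ∈ P', c v ∈ P') → (∃ n, Odd n ∧ c ^ n = 1) → ∀ v ∈ L', c v ∈ L') := by
  obtain ⟨f, hf, hH, hx⟩ := hyp_plane hP hnd hv hv0 hvs
  obtain ⟨g, hg, hH', hx'⟩ := hyp_plane hP' hnd' hw hw0 hws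
  have vw := hperp v hv w hw
  have vg := hperp v hv g hg
  have fw := hperp f hf w hw
  have fg := hperp f hf g hg
  have hxs : ∀ x ∈ P, x = polar Q v x • f + polar Q f x • v := fun x hx1 => by rw [add_comm]; exact hx x hx1
  have hxs' : ∀ x ∈ P', x = polar Q w x • g + polar Q g x • w := fun x hx1 => by rw [add_comm]; exact hx' x hx1
  have sing : ∀ {a b x : V}, Q a = 0 → Q b = 0 → polar Q a b = 0 → x ∈ Submodule.span F {a, b} → Q x = 0 := by
    intro a b x ha hb hab hx
    rw [Submodule.mem_span_pair] at hx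
    obtain ⟨s, t, rfl⟩ := hx
    rw [Q_add, QuadraticMap.map_smul, QuadraticMap.map_smul, ha, hb, polar_smul_left, polar_smul_right, hab,
      smul_zero, smul_zero, smul_zero, smul_zero, add_zero, add_zero]
  have inv : ∀ {a b : V} {c : V ≃ₗ[F] V}, (∃ s : F, c a = s • a) → (∃ s : F, c b = s • b) →
      ∀ x ∈ Submodule.span F {a, b}, c x ∈ Submodule.span F {a, b} := by
    rintro a b c ⟨s, hs⟩ ⟨t, ht⟩ x hx
    rw [Submodule.mem_span_pair] at hx ⊢
    obtain ⟨k, l, rfl⟩ := hx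
    exact ⟨k * s, l * t, by rw [map_add, map_smul, map_smul, hs, ht, smul_smul, smul_smul]⟩
  refine ⟨Submodule.span F {v, w}, Submodule.span F {f, g}, finrank_pair hH hH' vw vg fw,
    finrank_pair hH.symm hH'.symm fg fw vg, fun x hx1 => sing hvs hws vw hx1,
    fun x hx1 => sing hH.right hH'.right fg hx1, ?_, ?_, ?_⟩
  · intro x hx1 h0
    rw [Submodule.mem_span_pair] at hx1
    obtain ⟨a, b, rfl⟩ := hx1
    have k1 := h0 f (Submodule.subset_span (by simp))
    have k2 := h0 g (Submodule.subset_span (by simp))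
    rw [polar_add_left, polar_smul_left, polar_smul_left, hH.pair, polar_comm Q w f, fw, smul_zero, add_zero,
      smul_eq_mul, mul_one] at k1
    rw [polar_add_left, polar_smul_left, polar_smul_left, vg, hH'.pair, smul_zero, zero_add, smul_eq_mul,
      mul_one] at k2
    rw [k1, k2, zero_smul, zero_smul, add_zero]
  · rintro c hc hcP hcP' ⟨n, hn, hcn⟩
    exact inv (fix_line hv hf hH hx hc hcP hn hcn) (fix_line hw hg hH' hx' hc hcP' hn hcn)
  · rintro c hc hcP hcP' ⟨n, hn, hcn⟩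
    exact inv (fix_line hf hv hH.symm hxs hc hcP hn hcn) (fix_line hg hw hH'.symm hxs' hc hcP' hn hcn)

end gen

open Cfsg.Agent.LieClassical.QuadForms Cfsg.Agent.ClassicalGeometry.TrialityOct Cfsg.Agent.H864.RC
open Cfsg.Agent.LieClassical.OrthSimple Cfsg.Agent.ClassicalGeometry.OrthSemi
open Cfsg.Agent.ClassicalGeometry.OrthAut1 Cfsg.Agent.H106.RC Cfsg.Agent.H93.RC Cfsg.Agent.H566.RC
open Cfsg.Agent.ClassicalGeometry.Triality Cfsg.Agent.ClassicalGeometry.TrialitySpaces
open Cfsg.Agent.H198.TriBase Cfsg.Agent.H198.TriAut Cfsg.Agent.H206.Balance Cfsg.Agent.H198.TriDia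
open Cfsg.Agent.H198.TwComp Cfsg.Agent.H198

variable {F : Type} [Field F]

/-- (P3) three anisotropic planes and a hyperbolic plane: the space has minus type -/
def TypeCount (F : Type) [Field F] : Prop :=
  ∀ (P : Fin 4 → Submodule F (V8 F)) (_ : ∀ k, finrank F (P k) = 2)
    (_ : ∀ k l, k ≠ l → ∀ v ∈ P k, ∀ w ∈ P l, polar (plusForm 4 F) v w = 0)
    (_ : ∀ k, ∀ v ∈ P k, (∀ w ∈ P k, polar (plusForm 4 F) v w = 0) → v = 0)
    (k₀ : Fin 4) (_ : ∀ k, k ≠ k₀ → ∀ v ∈ P k, plusForm 4 F v = 0 → v = 0)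
    {v : V8 F} (_ : v ∈ P k₀) (_ : v ≠ 0) (_ : plusForm 4 F v = 0), False

/-- (P4) the end: only planes -/
theorem planes_end_of (htc : TypeCount F) {s1 s2 : V8 F ≃ₗ[F] V8 F} (P : Fin 4 → Submodule F (V8 F))
    (hP : ∀ k, finrank F (P k) = 2)
    (hperp : ∀ k l, k ≠ l → ∀ v ∈ P k, ∀ w ∈ P l, polar (plusForm 4 F) v w = 0)
    (hnd : ∀ k, ∀ v ∈ P k, (∀ w ∈ P k, polar (plusForm 4 F) v w = 0) → v = 0)
    (hinv : ∀ k, ∀ c : V8 F ≃ₗ[F] V8 F, c * s1 = s1 * c → c * s2 = s2 * c → ∀ v ∈ P k, c v ∈ P k) :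
    (∃ L L' : Submodule F (V8 F), finrank F L = 2 ∧ finrank F L' = 2 ∧ (∀ v ∈ L, plusForm 4 F v = 0) ∧
      (∀ v ∈ L', plusForm 4 F v = 0) ∧ (∀ v ∈ L, (∀ w ∈ L', polar (plusForm 4 F) v w = 0) → v = 0) ∧
      (∀ c ∈ O (plusForm 4 F), c * s1 = s1 * c → c * s2 = s2 * c → (∃ n, Odd n ∧ c ^ n = 1) → ∀ v ∈ L, c v ∈ L) ∧
      (∀ c ∈ O (plusForm 4 F), c * s1 = s1 * c → c * s2 = s2 * c → (∃ n, Odd n ∧ c ^ n = 1) → ∀ v ∈ L', c v ∈ L')) ∨
    ∀ k, ∀ v ∈ P k, plusForm 4 F v = 0 → v = 0 := by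
  by_cases hall : ∀ k, ∀ v ∈ P k, plusForm 4 F v = 0 → v = 0
  · exact Or.inr hall
  · left
    push Not at hall
    obtain ⟨k, v, hv, hvs, hv0⟩ := hall
    by_cases hex : ∃ l, l ≠ k ∧ ∃ w ∈ P l, w ≠ 0 ∧ plusForm 4 F w = 0
    · obtain ⟨l, hl, w, hw, hw0, hws⟩ := hex
      obtain ⟨L, L', h1, h2, h3, h4, h5, h6, h7⟩ :=
        two_planes (hP k) (hP l) (hperp k l (Ne.symm hl)) (hnd k) (hnd l) hv hv0 hvs hw hw0 hws
      exact ⟨L, L', h1, h2, h3, h4, h5, fun c hc hc1 hc2 hn => h6 c hc (hinv k c hc1 hc2) (hinv l c hc1 hc2) hn,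
        fun c hc hc1 hc2 hn => h7 c hc (hinv k c hc1 hc2) (hinv l c hc1 hc2) hn⟩
    · exfalso
      refine htc P hP hperp hnd k ?_ hv hv0 hvs
      intro l hl w hw hws
      by_contra hw0
      exact hex ⟨l, hl, w, hw, hw0, hws⟩

end Cfsg.Agent.H893.RC
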